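/-
Coprime action, part 2: fixed points (Glauberman's lemma in subgroup form), centralizers in quotients,
`N = [N,A] C_N(A)`, invariant Sylow subgroups.  The acting group `A` is solvable; `A ≤ N_G(N)`; coprime orders.
-/
import Cfsg.Agent.Coprime.Conjugacy
import Mathlib.GroupTheory.Commutator.Basic
import Mathlib.GroupTheory.Nilpotent
import Mathlib.GroupTheory.PGroup

set_option linter.unusedSectionVars false
set_option linter.style.haveILetI false

namespace Cfsg.Agent.Coprime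

open scoped commutatorElement

variable {G : Type*} [Group G]

theorem coe_inv_conj (x y : G) : x⁻¹ * y * (x⁻¹)⁻¹ = x⁻¹ * y * x := by rw [inv_inv]

/-- **Fixed-point lemma**: if `A ≤ N S` (with `S` arbitrary), a `N`-conjugate of `A` lies in `S`. -/
theorem exists_conj_le [Finite G] {N A S : Subgroup G} (hA : A ≤ Subgroup.normalizer (N : Set G))
    [Group.IsSolvable A] (hcop : (Nat.card A).Coprime (Nat.card N))
    (h : ∀ a ∈ A, ∃ n ∈ N, n * a ∈ S) : ∃ x ∈ N, ∀ a ∈ A, x * a * x⁻¹ ∈ S := by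
  set S' := S ⊓ (N ⊔ A) with hS'
  have hS'n : S' ≤ Subgroup.normalizer (N : Set G) := inf_le_right.trans (sup_le_normalizer hA)
  have hsup : N ⊔ S' = N ⊔ A := by
    refine le_antisymm (sup_le le_sup_left inf_le_right) (sup_le le_sup_left fun a ha => ?_)
    obtain ⟨n, hn, hna⟩ := h a ha
    have : n * a ∈ S' := ⟨hna, Subgroup.mul_mem_sup hn ha⟩
    simpa using Subgroup.mul_mem_sup (N.inv_mem hn) this
  have hM : (N.subgroupOf S').Normal := Subgroup.normal_subgroupOf_of_le_normalizer hS'n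
  have hindex : (N.subgroupOf S').index = Nat.card A := by
    change N.relIndex S' = _
    haveI : (N.subgroupOf (N ⊔ A)).Normal :=
      Subgroup.normal_subgroupOf_of_le_normalizer (sup_le_normalizer hA)
    have h0 : S' ≤ N ⊔ A := inf_le_right
    rw [← Subgroup.relIndex_subgroupOf h0,
      ← Subgroup.relIndex_sup_right (H := S'.subgroupOf (N ⊔ A)) (K := N.subgroupOf (N ⊔ A)),
      ← Subgroup.subgroupOf_sup h0 le_sup_left, sup_comm S' N, hsup, Subgroup.subgroupOf_self,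
      Subgroup.relIndex_top_right]
    have h1 := Subgroup.card_mul_index (N.subgroupOf (N ⊔ A))
    rw [Nat.card_congr (Subgroup.subgroupOfEquivOfLe le_sup_left).toEquiv,
      card_sup hA (inf_eq_bot_of_coprime hcop)] at h1
    exact Nat.eq_of_mul_eq_mul_left Nat.card_pos h1
  have hdvd : Nat.card (N.subgroupOf S') ∣ Nat.card N := by
    rw [← Subgroup.card_map_of_injective S'.subtype_injective]
    exact Subgroup.card_dvd_of_le (by rw [Subgroup.subgroupOf_map_subtype]; exact inf_le_left)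
  have hc : (Nat.card (N.subgroupOf S')).Coprime (N.subgroupOf S').index := by
    rw [hindex]; exact hcop.symm.coprime_dvd_left hdvd
  obtain ⟨K, hK⟩ := Subgroup.exists_right_complement'_of_coprime hc
  have hKcard : Nat.card K = Nat.card A := by
    have h1 := hK.card_mul
    rw [← Subgroup.card_mul_index (N.subgroupOf S'), hindex] at h1
    exact Nat.eq_of_mul_eq_mul_left Nat.card_pos h1
  set K' := K.map S'.subtype
  have hK'card : Nat.card K' = Nat.card A := by
    rw [Subgroup.card_map_of_injective S'.subtype_injective, hKcard]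
  obtain ⟨x, hx, hxK⟩ := exists_conj_complement N _ A K' rfl inferInstance hA
    ((Subgroup.map_subtype_le K).trans inf_le_right) hK'card hcop
  refine ⟨x, hx, fun a ha => ?_⟩
  have : x * a * x⁻¹ ∈ K' := by rw [hxK, map_conj_mem]; simpa [mul_assoc] using ha
  exact ((Subgroup.map_subtype_le K) this).1

theorem mem_centralizer_iff_conj {A : Subgroup G} {n : G} :
    n ∈ Subgroup.centralizer (A : Set G) ↔ ∀ a ∈ A, n * a * n⁻¹ = a := by
  rw [Subgroup.mem_centralizer_iff]
  exact forall₂_congr fun a _ => by rw [mul_inv_eq_iff_eq_mul]; exact eq_comm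

/-- An element of `N` conjugating `A` into itself centralizes `A` (coprime orders). -/
theorem mem_centralizer_of_conj_mem [Finite G] {N A : Subgroup G}
    (hA : A ≤ Subgroup.normalizer (N : Set G)) (hcop : (Nat.card A).Coprime (Nat.card N))
    {n : G} (hn : n ∈ N) (h : ∀ a ∈ A, n * a * n⁻¹ ∈ A) :
    n ∈ Subgroup.centralizer (A : Set G) := by
  rw [mem_centralizer_iff_conj]
  intro a ha
  have h1 : n * a * n⁻¹ * a⁻¹ ∈ A := A.mul_mem (h a ha) (A.inv_mem ha)
  have h2 : a * n⁻¹ * a⁻¹ ∈ N := (Subgroup.mem_normalizer_iff.mp (hA ha) _).mp (N.inv_mem hn)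
  have h3 : n * a * n⁻¹ * a⁻¹ ∈ N := by simpa [mul_assoc] using N.mul_mem hn h2
  have h4 : n * a * n⁻¹ * a⁻¹ ∈ N ⊓ A := ⟨h3, h1⟩
  rw [inf_eq_bot_of_coprime hcop, Subgroup.mem_bot] at h4
  exact mul_inv_eq_one.mp h4

/-- Two `N`-translates fixed by `A` differ by `C_N(A)` (modulo the stabilizer). -/
theorem exists_mem_centralizer_of_conj_le [Finite G] {N A S : Subgroup G}
    (hA : A ≤ Subgroup.normalizer (N : Set G)) [Group.IsSolvable A]
    (hcop : (Nat.card A).Coprime (Nat.card N)) (hAS : A ≤ S) {x : G} (hx : x ∈ N)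
    (hxS : ∀ a ∈ A, x * a * x⁻¹ ∈ S) :
    ∃ s ∈ N ⊓ S, ∃ c ∈ N ⊓ Subgroup.centralizer (A : Set G), x = s * c := by
  set M := N ⊓ S
  have hAM : A ≤ Subgroup.normalizer (M : Set G) :=
    (le_inf hA (hAS.trans Subgroup.le_normalizer)).trans Subgroup.inf_normalizer_le_normalizer_inf
  have hle : A.map (MulAut.conj x).toMonoidHom ≤ M ⊔ A := by
    rw [map_conj_le_iff]
    intro a ha
    have h2 : a * x⁻¹ * a⁻¹ ∈ N := (Subgroup.mem_normalizer_iff.mp (hA ha) _).mp (N.inv_mem hx)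
    have h3 : x * a * x⁻¹ * a⁻¹ ∈ M :=
      ⟨by simpa [mul_assoc] using N.mul_mem hx h2, S.mul_mem (hxS a ha) (S.inv_mem (hAS ha))⟩
    simpa using Subgroup.mul_mem_sup h3 ha
  obtain ⟨s, hs, hsA⟩ := exists_conj_complement M _ A (A.map (MulAut.conj x).toMonoidHom) rfl
    inferInstance hAM hle (card_map_conj A x) (hcop.coprime_dvd_right (Subgroup.card_dvd_of_le inf_le_left))
  refine ⟨s, hs, s⁻¹ * x, ⟨N.mul_mem (N.inv_mem hs.1) hx, ?_⟩, by group⟩
  refine mem_centralizer_of_conj_mem hA hcop (N.mul_mem (N.inv_mem hs.1) hx) fun a ha => ?_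
  have : x * a * x⁻¹ ∈ A.map (MulAut.conj s).toMonoidHom := by
    rw [← hsA, map_conj_mem]; simpa [mul_assoc] using ha
  rw [map_conj_mem] at this
  simpa [mul_assoc] using this

/-- Lifting fixed points: `C_{N/M}(A)` is the image of `C_N(A)` (element form). -/
theorem exists_mul_centralizer [Finite G] {N M A : Subgroup G}
    (hA : A ≤ Subgroup.normalizer (N : Set G)) [Group.IsSolvable A]
    (hcop : (Nat.card A).Coprime (Nat.card N)) (hM : M ≤ N) (hAM : A ≤ Subgroup.normalizer (M : Set G))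
    {x : G} (hx : x ∈ N) (hfix : ∀ a ∈ A, ⁅x, a⁆ ∈ M) :
    ∃ m ∈ M, ∃ c ∈ N ⊓ Subgroup.centralizer (A : Set G), x = m * c := by
  have hxS : ∀ a ∈ A, x * a * x⁻¹ ∈ M ⊔ A := fun a ha => by
    have := hfix a ha
    rw [commutatorElement_def] at this
    simpa using Subgroup.mul_mem_sup this ha
  obtain ⟨s, hs, c, hc, h⟩ := exists_mem_centralizer_of_conj_le hA hcop le_sup_right hx hxS
  refine ⟨s, ?_, c, hc, h⟩
  obtain ⟨m, hm, a, ha, rfl⟩ := exists_mul_of_mem_sup hAM hs.2
  have : a ∈ N ⊓ A := ⟨by simpa using N.mul_mem (N.inv_mem (hM hm)) hs.1, ha⟩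
  rw [inf_eq_bot_of_coprime hcop, Subgroup.mem_bot] at this
  simpa [this] using hm

theorem commutator_le_of_le_normalizer {N A : Subgroup G} (hA : A ≤ Subgroup.normalizer (N : Set G)) :
    ⁅N, A⁆ ≤ N := Subgroup.le_normalizer_iff_commutator_le_left.mp hA

/-- `[N,A,A]`-free form: `N = [N,A] C_N(A)`. -/
theorem eq_commutator_sup_centralizer [Finite G] {N A : Subgroup G}
    (hA : A ≤ Subgroup.normalizer (N : Set G)) [Group.IsSolvable A]
    (hcop : (Nat.card A).Coprime (Nat.card N)) :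
    N = ⁅N, A⁆ ⊔ (N ⊓ Subgroup.centralizer (A : Set G)) := by
  refine le_antisymm (fun x hx => ?_) (sup_le (commutator_le_of_le_normalizer hA) inf_le_left)
  obtain ⟨m, hm, c, hc, rfl⟩ := exists_mul_centralizer hA hcop (commutator_le_of_le_normalizer hA)
    (Subgroup.normalizer_commutator_ge_right N A) hx (fun a ha => Subgroup.commutator_mem_commutator hx ha)
  exact Subgroup.mul_mem_sup hm hc

/-- `[N,A,A] = [N,A]`. -/
theorem commutator_commutator_eq [Finite G] {N A : Subgroup G}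
    (hA : A ≤ Subgroup.normalizer (N : Set G)) [Group.IsSolvable A]
    (hcop : (Nat.card A).Coprime (Nat.card N)) : ⁅⁅N, A⁆, A⁆ = ⁅N, A⁆ := by
  refine le_antisymm (Subgroup.commutator_mono (commutator_le_of_le_normalizer hA) le_rfl) ?_
  rw [Subgroup.commutator_le]
  intro x hx a ha
  rw [← SetLike.mem_coe, eq_commutator_sup_centralizer hA hcop,
    Subgroup.coe_mul_of_right_le_normalizer_left _ _
      ((inf_le_left).trans (Subgroup.normalizer_commutator_ge_left N A))] at hx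
  obtain ⟨y, hy, c, hc, rfl⟩ := Set.mem_mul.mp hx
  have hca : c * a = a * c := ((Subgroup.mem_centralizer_iff.mp hc.2) a ha).symm
  have : ⁅y * c, a⁆ = ⁅y, a⁆ := by
    simp only [commutatorElement_def, mul_inv_rev]
    rw [show y * c * a * (c⁻¹ * y⁻¹) = y * (c * a) * c⁻¹ * y⁻¹ by group, hca]; group
  rw [this]
  exact Subgroup.commutator_mem_commutator hy ha

theorem commutator_eq_bot_of_commutator_commutator [Finite G] {N A : Subgroup G}
    (hA : A ≤ Subgroup.normalizer (N : Set G)) [Group.IsSolvable A]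
    (hcop : (Nat.card A).Coprime (Nat.card N)) (h : ⁅⁅N, A⁆, A⁆ = ⊥) : ⁅N, A⁆ = ⊥ := by
  rwa [commutator_commutator_eq hA hcop] at h

/-- An element of `N` conjugating `H` into itself normalizes it. -/
theorem mem_normalizer_of_conj_mem [Finite G] {H : Subgroup G} {x : G}
    (h : ∀ y ∈ H, x * y * x⁻¹ ∈ H) : x ∈ Subgroup.normalizer (H : Set G) := by
  rw [Subgroup.mem_normalizer_iff_map_conj_eq]
  exact Subgroup.eq_of_le_of_card_ge (map_conj_le_iff.mpr h) (card_map_conj H x).ge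

/-- Coprime action: there is an `A`-invariant Sylow `p`-subgroup of `N`. -/
theorem exists_invariant_sylow [Finite G] {N A : Subgroup G}
    (hA : A ≤ Subgroup.normalizer (N : Set G)) [Group.IsSolvable A]
    (hcop : (Nat.card A).Coprime (Nat.card N)) (p : ℕ) [hp : Fact p.Prime] :
    ∃ P : Subgroup G, P ≤ N ∧ IsPGroup p P ∧ ¬ p ∣ P.relIndex N ∧
      A ≤ Subgroup.normalizer (P : Set G) := by
  obtain ⟨P₀⟩ := (inferInstance : Nonempty (Sylow p N))
  set P := (P₀ : Subgroup N).map N.subtype with hP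
  have hPN : P ≤ N := Subgroup.map_subtype_le _
  have hPi : ¬ p ∣ P.relIndex N := by
    rw [Subgroup.relIndex, show P.subgroupOf N = (P₀ : Subgroup N) from
      Subgroup.comap_map_eq_self_of_injective N.subtype_injective _]
    exact P₀.not_dvd_index
  have key : ∀ a ∈ A, ∃ n ∈ N, n * a ∈ Subgroup.normalizer (P : Set G) := by
    intro a ha
    have hQN : P.map (MulAut.conj a).toMonoidHom ≤ N := map_conj_le_iff.mpr fun k hk =>
      (Subgroup.mem_normalizer_iff.mp (hA ha) k).mp (hPN hk)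
    have hQi : ¬ p ∣ (P.map (MulAut.conj a).toMonoidHom).relIndex N := by
      have hN : N.map (MulAut.conj a).toMonoidHom = N :=
        Subgroup.mem_normalizer_iff_map_conj_eq.mp (hA ha)
      have := Subgroup.relIndex_map_map_of_injective P N (f := (MulAut.conj a).toMonoidHom)
        (MulAut.conj a).injective
      rw [hN] at this; rwa [this]
    obtain ⟨n, hn, hn'⟩ := exists_conj_of_sylow (P₀.2.map N.subtype |>.map _) (P₀.2.map _) hQN hPN hQi hPi
    refine ⟨n, hn, ?_⟩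
    rw [Subgroup.mem_normalizer_iff_map_conj_eq]
    refine Eq.trans ?_ hn'
    ext z
    change z ∈ P.map (MulAut.conj (n * a)).toMonoidHom ↔ _
    simp only [map_conj_mem, mul_inv_rev, mul_assoc]
    rfl
  obtain ⟨x, hx, hxS⟩ := exists_conj_le hA hcop key
  refine ⟨P.map (MulAut.conj x⁻¹).toMonoidHom, map_conj_le_iff.mpr fun k hk =>
      N.mul_mem (N.mul_mem (N.inv_mem hx) (hPN hk)) (N.inv_mem (N.inv_mem hx)),
    (P₀.2.map _).map _, ?_, ?_⟩
  · have hN : N.map (MulAut.conj x⁻¹).toMonoidHom = N :=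
      Subgroup.mem_normalizer_iff_map_conj_eq.mp (Subgroup.le_normalizer (N.inv_mem hx))
    have := Subgroup.relIndex_map_map_of_injective P N (f := (MulAut.conj x⁻¹).toMonoidHom)
      (MulAut.conj x⁻¹).injective
    rw [hN] at this; rwa [this]
  · intro a ha
    refine mem_normalizer_of_conj_mem fun y hy => ?_
    rw [map_conj_mem] at hy ⊢
    simp only [inv_inv] at hy ⊢
    have := (Subgroup.mem_normalizer_iff.mp (hxS a ha) _).mp hy
    simpa [mul_assoc] using this

/-- Two `A`-invariant Sylow `p`-subgroups of `N` are conjugate under `C_N(A)`. -/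
theorem exists_conj_invariant_sylow [Finite G] {N A : Subgroup G}
    (hA : A ≤ Subgroup.normalizer (N : Set G)) [Group.IsSolvable A]
    (hcop : (Nat.card A).Coprime (Nat.card N)) {p : ℕ} [Fact p.Prime] {P Q : Subgroup G}
    (hPN : P ≤ N) (hQN : Q ≤ N) (hP : IsPGroup p P) (hQ : IsPGroup p Q)
    (hPi : ¬ p ∣ P.relIndex N) (hQi : ¬ p ∣ Q.relIndex N)
    (hPA : A ≤ Subgroup.normalizer (P : Set G)) (hQA : A ≤ Subgroup.normalizer (Q : Set G)) :
    ∃ c ∈ N ⊓ Subgroup.centralizer (A : Set G), P.map (MulAut.conj c).toMonoidHom = Q := by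
  obtain ⟨x, hx, hxQ⟩ := exists_conj_of_sylow hP hQ hPN hQN hPi hQi
  -- `x⁻¹` carries `A` into `N_G(P)`
  have hxS : ∀ a ∈ A, x⁻¹ * a * (x⁻¹)⁻¹ ∈ Subgroup.normalizer (P : Set G) := by
    intro a ha
    refine mem_normalizer_of_conj_mem fun y hy => ?_
    have h1 : x * y * x⁻¹ ∈ Q := by rw [← hxQ, map_conj_mem]; simpa [mul_assoc] using hy
    have h2 := (Subgroup.mem_normalizer_iff.mp (hQA ha) _).mp h1
    rw [← hxQ, map_conj_mem] at h2
    simpa [mul_assoc] using h2
  obtain ⟨s, hs, c, hc, hxe⟩ :=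
    exists_mem_centralizer_of_conj_le hA hcop hPA (N.inv_mem hx) hxS
  refine ⟨c⁻¹, Subgroup.inv_mem _ hc, ?_⟩
  rw [← hxQ, show x = c⁻¹ * s⁻¹ by rw [← mul_inv_rev, ← hxe, inv_inv]]
  conv_rhs => rw [map_mul]
  rw [show ((MulAut.conj c⁻¹ * MulAut.conj s⁻¹ : MulAut G)).toMonoidHom =
    (MulAut.conj c⁻¹).toMonoidHom.comp (MulAut.conj s⁻¹).toMonoidHom from rfl, ← Subgroup.map_map]
  congr 1
  exact (Subgroup.mem_normalizer_iff_map_conj_eq.mp (Subgroup.inv_mem _ hs.2)).symm

/-- Every `A`-invariant `p`-subgroup of `N` lies in an `A`-invariant Sylow `p`-subgroup of `N`. -/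
theorem exists_invariant_sylow_ge [Finite G] {N A : Subgroup G}
    (hA : A ≤ Subgroup.normalizer (N : Set G)) [Group.IsSolvable A]
    (hcop : (Nat.card A).Coprime (Nat.card N)) {p : ℕ} [hp : Fact p.Prime] {R : Subgroup G}
    (hRN : R ≤ N) (hR : IsPGroup p R) (hRA : A ≤ Subgroup.normalizer (R : Set G)) :
    ∃ P : Subgroup G, R ≤ P ∧ P ≤ N ∧ IsPGroup p P ∧ ¬ p ∣ P.relIndex N ∧
      A ≤ Subgroup.normalizer (P : Set G) := by
  obtain ⟨U, hRU, ⟨⟨hUN, hU, hUA⟩, hUmax⟩⟩ := (Set.toFinite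
      {U : Subgroup G | U ≤ N ∧ IsPGroup p U ∧ A ≤ Subgroup.normalizer (U : Set G)}).exists_le_maximal
    (a := R) ⟨hRN, hR, hRA⟩
  set M := N ⊓ Subgroup.normalizer (U : Set G) with hM
  have hAM : A ≤ Subgroup.normalizer (M : Set G) :=
    (le_inf hA (hUA.trans Subgroup.le_normalizer)).trans Subgroup.inf_normalizer_le_normalizer_inf
  have hUM : U ≤ M := le_inf hUN Subgroup.le_normalizer
  obtain ⟨Q, hQM, hQ, hQi, hQA⟩ := exists_invariant_sylow hAM
    (hcop.coprime_dvd_right (Subgroup.card_dvd_of_le inf_le_left)) p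
  -- `U` is normal in `M`, hence contained in `Q`
  have hUQ : U ≤ Q := by
    have hn : M ≤ Subgroup.normalizer (U : Set G) := inf_le_right
    have h1 : IsPGroup p (U ⊔ Q : Subgroup G) := hU.to_sup_of_normal_left' hQ (hQM.trans hn)
    have h2 : Q.relIndex (U ⊔ Q) ∣ Q.relIndex M :=
      ⟨(U ⊔ Q).relIndex M, (Subgroup.relIndex_mul_relIndex Q _ M le_sup_right (sup_le hUM hQM)).symm⟩
    obtain ⟨k, hk⟩ := (IsPGroup.iff_card).mp h1
    have h3 : Q.relIndex (U ⊔ Q) ∣ p ^ k := by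
      rw [← hk]; exact Subgroup.relIndex_dvd_card Q (U ⊔ Q)
    obtain ⟨j, -, hj⟩ := (Nat.dvd_prime_pow hp.out).mp h3
    rcases Nat.eq_zero_or_pos j with hj0 | hj0
    · exact le_sup_left.trans (Subgroup.relIndex_eq_one.mp (by rw [hj, hj0, pow_zero]))
    · exact absurd ((dvd_pow_self p hj0.ne').trans (hj ▸ h2)) hQi
  have hQU : Q = U := le_antisymm (hUmax ⟨hQM.trans inf_le_left, hQ, hQA⟩ hUQ) hUQ
  subst hQU
  refine ⟨Q, hRU, hUN, hQ, ?_, hUA⟩
  -- `Q` is Sylow in its normalizer, hence Sylow in `N`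
  obtain ⟨S, hS⟩ := (hQ.comap_subtype (K := N)).exists_le_sylow
  by_contra hdvd
  have hne : Q.subgroupOf N ≠ S := fun e => S.not_dvd_index (e ▸ hdvd)
  have hlt : Q.subgroupOf N < S := lt_of_le_of_ne hS hne
  haveI := S.2.isNilpotent
  set Q₁ := (Q.subgroupOf N).subgroupOf (S : Subgroup N)
  have hQ₁ : Q₁ < ⊤ := lt_top_iff_ne_top.mpr fun h => hlt.not_ge (Subgroup.subgroupOf_eq_top.mp h)
  obtain ⟨z, hzn, hzQ⟩ := SetLike.exists_of_lt (Group.normalizerCondition_of_isNilpotent Q₁ hQ₁)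
  obtain ⟨y, hyS⟩ := z
  have hyQ : y ∉ Q.subgroupOf N := hzQ
  have hyn : ∀ w : N, w ∈ Q.subgroupOf N → y * w * y⁻¹ ∈ Q.subgroupOf N := fun w hw =>
    (Subgroup.mem_normalizer_iff.mp hzn ⟨w, hS hw⟩).mp hw
  -- the `p`-element `y` normalizes `Q`
  set W : Subgroup G := Q ⊔ Subgroup.zpowers (y : G)
  have hyM : (y : G) ∈ M := by
    refine ⟨y.2, mem_normalizer_of_conj_mem fun z hz => ?_⟩
    exact hyn ⟨z, hUN hz⟩ hz
  have hz : IsPGroup p (Subgroup.zpowers (y : G)) :=
    ((S.2.map N.subtype)).to_le (Subgroup.zpowers_le.mpr ⟨y, hyS, rfl⟩)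
  have hW : IsPGroup p W :=
    hQ.to_sup_of_normal_left' hz (Subgroup.zpowers_le.mpr hyM.2)
  have h2 : Q.relIndex W ∣ Q.relIndex M :=
    ⟨W.relIndex M, (Subgroup.relIndex_mul_relIndex Q _ M le_sup_left
      (sup_le hQM (Subgroup.zpowers_le.mpr hyM))).symm⟩
  obtain ⟨k, hk⟩ := (IsPGroup.iff_card).mp hW
  obtain ⟨j, -, hj⟩ := (Nat.dvd_prime_pow hp.out).mp
    (hk ▸ Subgroup.relIndex_dvd_card Q W : Q.relIndex W ∣ p ^ k)
  rcases Nat.eq_zero_or_pos j with hj0 | hj0
  · exact hyQ ((Subgroup.relIndex_eq_one.mp (by rw [hj, hj0, pow_zero]) : W ≤ Q)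
      (Subgroup.mem_sup_right (Subgroup.mem_zpowers _)))
  · exact absurd ((dvd_pow_self p hj0.ne').trans (hj ▸ h2)) hQi

end Cfsg.Agent.Coprime
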